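import Groth.Agent.H26.FibreQuot
import Groth.Agent.H26.FibreIdeal
import Groth.Agent.H26.IdealCl
import Groth.Agent.H23.RedSub
import Groth.Agent.RegUFD.Basic
import Groth.Agent.QsAlgLib.Point
import Groth.Agent.CycLib.Push
import Groth.Agent.DivX.CodimOne
import Groth.Prelude.Def_Models
import Mathlib.RingTheory.OrderOfVanishing.Basic

/-!
# A root of the ideal of the special fibre of a regular scheme over a discrete valuation ring
-/

set_option autoImplicit false
set_option linter.style.haveILetI false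
set_option linter.unusedSectionVars false
set_option backward.isDefEq.respectTransparency false
set_option backward.isDefEq.respectTransparency.types false
set_option maxHeartbeats 1000000

universe u

open CategoryTheory CategoryTheory.Limits AlgebraicGeometry TopologicalSpace Opposite

noncomputable section

namespace Groth.Agent.MultRoot

open Groth.Agent Groth.Agent.H26

variable {R : Type u} [CommRing R] [IsDomain R] [IsDiscreteValuationRing R] {𝒳 : Scheme.{u}}

/-- The reduced closed subscheme with a given generic point. -/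
abbrev closureIdeal (x : 𝒳) : 𝒳.IdealSheafData :=
  Scheme.IdealSheafData.vanishingIdeal ⟨closure {x}, isClosed_closure⟩

theorem isIntegral_closureIdeal (x : 𝒳) : IsIntegral (closureIdeal x).subscheme := by
  have hrange : Set.range (closureIdeal x).subschemeι = closure {x} := H23.RedSub.range_vanishingIdeal _
  haveI : IrreducibleSpace (closureIdeal x).subscheme := by
    haveI : IrreducibleSpace (Set.range (closureIdeal x).subschemeι) := Subtype.irreducibleSpace (by
      rw [hrange]
      exact isIrreducible_singleton.closure)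
    let e := (closureIdeal x).subschemeι.isClosedEmbedding.isEmbedding.toHomeomorph
    exact e.symm.surjective.irreducibleSpace e.symm.continuous
  haveI : IsReduced (closureIdeal x).subscheme := H23.RedSub.isReduced_vanishingIdeal _
  exact isIntegral_of_irreducibleSpace_of_isReduced _

theorem subschemeι_genericPoint (x : 𝒳) :
    haveI := isIntegral_closureIdeal x
    (closureIdeal x).subschemeι (genericPoint (closureIdeal x).subscheme) = x := by
  haveI := isIntegral_closureIdeal x
  have hrange : Set.range (closureIdeal x).subschemeι = closure {x} := H23.RedSub.range_vanishingIdeal _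
  refine (Specializes.antisymm ?_ ?_).eq
  · obtain ⟨z, hz⟩ : x ∈ Set.range (closureIdeal x).subschemeι := hrange ▸ subset_closure rfl
    have := (genericPoint_specializes z).map (closureIdeal x).subschemeι.continuous
    rwa [hz] at this
  · exact specializes_iff_mem_closure.2 (hrange ▸ ⟨_, rfl⟩)

theorem closureIdeal_cases (x : 𝒳) (U : 𝒳.affineOpens) :
    (x ∉ U.1 ∧ (closureIdeal x).ideal U = ⊤) ∨
      ∃ h : x ∈ U.1, (closureIdeal x).ideal U = (U.2.primeIdealOf ⟨x, h⟩).asIdeal := by
  rw [show (closureIdeal x).ideal U = PrimeSpectrum.vanishingIdeal (U.2.fromSpec ⁻¹' closure {x}) from rfl]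
  by_cases h : x ∈ U.1
  · refine Or.inr ⟨h, ?_⟩
    have hP := U.2.fromSpec_primeIdealOf ⟨x, h⟩
    rw [U.2.fromSpec.isOpenEmbedding.isOpenMap.preimage_closure_eq_closure_preimage U.2.fromSpec.continuous,
      PrimeSpectrum.vanishingIdeal_closure,
      show U.2.fromSpec ⁻¹' {x} = {U.2.primeIdealOf ⟨x, h⟩} by
        conv_lhs => rw [show ({x} : Set 𝒳) = {U.2.fromSpec (U.2.primeIdealOf ⟨x, h⟩)} by rw [hP]]
        rw [← Set.image_singleton, U.2.fromSpec.isOpenEmbedding.injective.preimage_image]]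
    exact PrimeSpectrum.vanishingIdeal_singleton _
  · refine Or.inl ⟨h, ?_⟩
    have : U.2.fromSpec ⁻¹' closure {x} = ∅ := by
      refine Set.eq_empty_iff_forall_notMem.2 fun q hq => h ?_
      exact (specializes_iff_mem_closure.2 hq).mem_open U.1.2 (U.2.range_fromSpec ▸ ⟨q, rfl⟩)
    rw [this, PrimeSpectrum.vanishingIdeal_empty]

variable (p : 𝒳 ⟶ Spec (CommRingCat.of R))

theorem range_fibre :
    Set.range (pullback.fst p (Spec.map (CommRingCat.ofHom (IsLocalRing.residue R)))) =
      Models.specialFibreSet R (Over.mk p) := by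
  let i := Spec.map (CommRingCat.ofHom (IsLocalRing.residue R))
  show Set.range (pullback.fst p i) = _
  erw [Scheme.Pullback.range_fst]
  show p ⁻¹' Set.range i = p ⁻¹' {IsLocalRing.closedPoint R}
  congr 1
  ext z
  refine ⟨fun ⟨c', hc'⟩ => ?_, fun h => ⟨IsLocalRing.closedPoint _, h.symm ▸ ?_⟩⟩
  · rw [Set.mem_singleton_iff, ← hc', show c' = IsLocalRing.closedPoint (IsLocalRing.ResidueField R) from
      Subsingleton.elim (α := PrimeSpectrum (IsLocalRing.ResidueField R)) _ _]
    exact IsLocalRing.comap_closedPoint (IsLocalRing.residue R)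
  · exact IsLocalRing.comap_closedPoint (IsLocalRing.residue R)

/-- If the length of the special fibre at each maximal point is divisible by `g`, its ideal is a `g`-th power. -/
theorem exists_root [Flat p] [LocallyOfFiniteType p] [CompactSpace 𝒳] (hreg : Models.IsRegularScheme 𝒳) (g : ℕ)
    (hg : ∀ η : ↥(Models.specialFibre R 𝒳 p), (∀ z : ↥(Models.specialFibre R 𝒳 p), z ⤳ η → z = η) →
      ∃ l : ℕ, Module.length ((Models.specialFibre R 𝒳 p).presheaf.stalk η)
        ((Models.specialFibre R 𝒳 p).presheaf.stalk η) = l ∧ g ∣ l) :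
    ∃ I : 𝒳.IdealSheafData, BlowUp.IsEffCartierIdeal I ∧ I ^ g = Models.specialFibreIdeal R (Over.mk p) := by
  classical
  haveI : IsLocallyNoetherian 𝒳 := LocallyOfFiniteType.isLocallyNoetherian p
  haveI : Flat (Over.mk p).hom := ‹Flat p›
  obtain ⟨ϖ, hirr⟩ := IsDiscreteValuationRing.exists_irreducible R
  have hϖ := hirr.maximalIdeal_eq
  let i := Spec.map (CommRingCat.ofHom (IsLocalRing.residue R))
  haveI : IsClosedImmersion i :=
    IsClosedImmersion.spec_of_surjective _ (IsLocalRing.residue_surjective (R := R))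
  let Y := Models.specialFibre R 𝒳 p
  let q : Y ⟶ 𝒳 := pullback.fst p i
  haveI : IsClosedImmersion q := inferInstanceAs (IsClosedImmersion (pullback.fst p i))
  haveI : IsNoetherian 𝒳 := ⟨⟩
  haveI : NoetherianSpace Y := q.isEmbedding.isInducing.noetherianSpace
  let T := genericPoints Y
  haveI : Fintype T := (genericPoints.finite NoetherianSpace.finite_irreducibleComponents).fintype
  have hmax : ∀ η : T, ∀ z : Y, z ⤳ η.1 → z = η.1 := fun η z hz => by
    have hle : closure {η.1} ⊆ closure {z} := hz.closure_subset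
    have heq : closure {z} = closure {η.1} :=
      (η.2.eq_of_le isIrreducible_singleton.closure hle).symm
    exact (isGenericPoint_closure.eq (show IsGenericPoint η.1 (closure {z}) from heq.symm))
  have hgen : ∀ y : Y, ∃ η : T, η.1 ⤳ y := fun y =>
    ⟨genericPoints.ofComponent ⟨_, irreducibleComponent_mem_irreducibleComponents y⟩,
      (genericPoints.isGenericPoint_ofComponent _).specializes mem_irreducibleComponent⟩
  choose l hl hgl using fun η : T => hg η.1 (hmax η)
  choose e he using hgl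
  have hfib : ∀ x : 𝒳, x ∈ Set.range q ↔ x ∈ Models.specialFibreSet R (Over.mk p) := fun x => by
    rw [show Set.range q = Models.specialFibreSet R (Over.mk p) from range_fibre p]
  have hpt : ∀ (U : 𝒳.affineOpens) (Q : Spec Γ(𝒳, U.1)), ∃ h : U.2.fromSpec Q ∈ U.1,
      U.2.primeIdealOf ⟨_, h⟩ = Q := fun U Q => by
    have h : U.2.fromSpec Q ∈ U.1 := by
      rw [← SetLike.mem_coe, ← U.2.range_fromSpec]; exact ⟨Q, rfl⟩
    exact ⟨h, U.2.fromSpec.isOpenEmbedding.injective (U.2.fromSpec_primeIdealOf _)⟩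
  have hmem : ∀ (U : 𝒳.affineOpens) (x : 𝒳) (h : x ∈ U.1), x ∈ Set.range q ↔
      FibreIdeal.unifOn (Over.mk p) ϖ U.1 ∈ (U.2.primeIdealOf ⟨x, h⟩).asIdeal := fun U x h =>
    (hfib x).trans (FibreIdeal.mem_fibre_iff (Over.mk p) hϖ U.2 x h)
  have hmin : ∀ (U : 𝒳.affineOpens) (η : T) (h : q η.1 ∈ U.1), (U.2.primeIdealOf ⟨_, h⟩).asIdeal ∈
      (Ideal.span {FibreIdeal.unifOn (Over.mk p) ϖ U.1}).minimalPrimes := by
    intro U η h
    refine ⟨⟨inferInstance, (Ideal.span_singleton_le_iff_mem _).2 ((hmem U _ h).1 ⟨_, rfl⟩)⟩, fun Q hQ hQle => ?_⟩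
    obtain ⟨hyU, hy⟩ := hpt U ⟨Q, hQ.1⟩
    obtain ⟨z, hz⟩ := (hmem U _ hyU).2 (by rw [hy]; exact hQ.2 (Ideal.mem_span_singleton_self _))
    have hsp : z ⤳ η.1 := q.isEmbedding.isInducing.specializes_iff.1 (by
      have h2 := ((PrimeSpectrum.le_iff_specializes ⟨Q, hQ.1⟩ (U.2.primeIdealOf ⟨_, h⟩)).1 hQle).map U.2.fromSpec.continuous
      rw [U.2.fromSpec_primeIdealOf] at h2
      rw [hz]
      exact h2)
    rw [hmax η z hsp] at hz
    have : U.2.primeIdealOf ⟨_, h⟩ = ⟨Q, hQ.1⟩ := hy ▸ congrArg _ (Subtype.ext hz)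
    rw [this]
  have hcodim : ∀ η : T, ringKrullDim (𝒳.presheaf.stalk (q η.1)) = 1 := by
    intro η
    obtain ⟨U, hU, hxU, -⟩ := exists_isAffineOpen_mem_and_subset (x := q η.1) (U := ⊤) trivial
    haveI : IsNoetherianRing Γ(𝒳, U) := IsLocallyNoetherian.component_noetherian ⟨U, hU⟩
    letI := TopCat.Presheaf.algebra_section_stalk 𝒳.presheaf (⟨q η.1, hxU⟩ : U)
    haveI := hU.isLocalization_stalk ⟨q η.1, hxU⟩
    rw [IsLocalization.AtPrime.ringKrullDim_eq_height (hU.primeIdealOf ⟨q η.1, hxU⟩).asIdeal (𝒳.presheaf.stalk (q η.1))]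
    have h := hmin ⟨U, hU⟩ η hxU
    refine congrArg _ (le_antisymm (Ideal.height_le_one_of_isPrincipal_of_mem_minimalPrimes _ _ h) ?_)
    refine Order.one_le_iff_pos.2 (pos_iff_ne_zero.2 fun h0 => ?_)
    rw [Ideal.height_eq_zero_iff] at h0
    exact notMem_nonZeroDivisors_of_mem_mem_minimalPrimes (h.1.2 (Ideal.mem_span_singleton_self _)) h0
      (FibreIdeal.unifOn_mem_nonZeroDivisors (Over.mk p) hirr.ne_zero hU)
  have hC : ∀ η : T, BlowUp.IsEffCartierIdeal (closureIdeal (q η.1)) := fun η => by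
    haveI := isIntegral_closureIdeal (q η.1)
    refine DivX.isEffCartier_of_codim_one _ ?_ fun x _ => @RegUFD.ufd (𝒳.presheaf.stalk x) _ (hreg x)
    rw [subschemeι_genericPoint]
    exact hcodim η
  refine ⟨∏ η, closureIdeal (q η.1) ^ e η, ?_, ?_⟩
  · refine Finset.prod_induction _ BlowUp.IsEffCartierIdeal (fun I J hI hJ => IdealCl.isEffCartier_mul hJ hI)
      IdealCl.isEffCartier_top fun η _ => ?_
    induction e η with
    | zero => rw [pow_zero]; exact IdealCl.isEffCartier_top
    | succ m ih => rw [pow_succ]; exact IdealCl.isEffCartier_mul (hC η) ih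
  rw [← Finset.prod_pow]
  simp only [← pow_mul]
  refine Scheme.IdealSheafData.ext (funext fun U => ?_)
  haveI : IsNoetherianRing Γ(𝒳, U.1) := IsLocallyNoetherian.component_noetherian U
  haveI : IsNoetherianRing Γ((Over.mk p).left, U.1) := ‹IsNoetherianRing Γ(𝒳, U.1)›
  rw [FibreIdeal.specialFibreIdeal_ideal (Over.mk p) hϖ U]
  let F : 𝒳.IdealSheafData →* Ideal Γ(𝒳, U.1) :=
    { toFun := fun I => I.ideal U, map_one' := by simp, map_mul' := fun I J => rfl }
  show F _ = _
  rw [map_prod]
  simp only [map_pow]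
  show ∏ η : T, (closureIdeal (q η.1)).ideal U ^ (e η * g) = _
  refine (IdealFactor.span_eq_prod (A := Γ(𝒳, U.1)) (fun m _ => ?_) (FibreIdeal.unifOn (Over.mk p) ϖ U.1 : Γ(𝒳, U.1))
    (FibreIdeal.unifOn_mem_nonZeroDivisors (Over.mk p) hirr.ne_zero U.2)
    (fun η : T => (closureIdeal (q η.1)).ideal U) (fun η => ?_) (fun η η' hij hne => ?_) (fun Q hQ => ?_)
    (fun η => e η * g) fun η _ => ?_).symm
  · obtain ⟨hxU, hx⟩ := hpt U ⟨m, inferInstance⟩
    letI := TopCat.Presheaf.algebra_section_stalk 𝒳.presheaf (⟨_, hxU⟩ : U.1)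
    haveI : IsLocalization.AtPrime (𝒳.presheaf.stalk (U.2.fromSpec ⟨m, inferInstance⟩)) m := by
      have := U.2.isLocalization_stalk ⟨_, hxU⟩
      simp only [hx] at this
      exact this
    let ee := (IsLocalization.algEquiv m.primeCompl (𝒳.presheaf.stalk (U.2.fromSpec ⟨m, inferInstance⟩))
      (Localization.AtPrime m)).toRingEquiv
    haveI := hreg (U.2.fromSpec ⟨m, inferInstance⟩)
    obtain ⟨hd, hu⟩ := RegUFD.ufd (𝒳.presheaf.stalk (U.2.fromSpec ⟨m, inferInstance⟩))
    exact ⟨ee.symm.toMulEquiv.isDomain _, ee.toMulEquiv.uniqueFactorizationMonoid hu⟩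
  · rcases closureIdeal_cases (q η.1) U with ⟨-, h⟩ | ⟨h, e'⟩
    · exact Or.inl h
    · exact Or.inr (e' ▸ hmin U η h)
  · rcases closureIdeal_cases (q η.1) U with ⟨-, h⟩ | ⟨h, e1⟩
    · exact absurd h hne
    rcases closureIdeal_cases (q η'.1) U with ⟨-, h'⟩ | ⟨h', e2⟩
    · exact absurd (hij.trans h') hne
    have h2 := congrArg U.2.fromSpec (PrimeSpectrum.ext (e1.symm.trans (hij.trans e2)))
    rw [U.2.fromSpec_primeIdealOf, U.2.fromSpec_primeIdealOf] at h2
    exact Subtype.ext (q.isEmbedding.injective h2)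
  · obtain ⟨hyU, hy⟩ := hpt U ⟨Q, hQ.1.1⟩
    obtain ⟨z, hz⟩ := (hmem U _ hyU).2 (by rw [hy]; exact hQ.1.2 (Ideal.mem_span_singleton_self _))
    obtain ⟨η, hη⟩ := hgen z
    have hsp : q η.1 ⤳ U.2.fromSpec ⟨Q, hQ.1.1⟩ := hz ▸ hη.map q.continuous
    have hηU : q η.1 ∈ U.1 := hsp.mem_open U.1.2 hyU
    refine ⟨η, ?_⟩
    rcases closureIdeal_cases (q η.1) U with ⟨h, -⟩ | ⟨h, e1⟩
    · exact absurd hηU h
    show (closureIdeal (q η.1)).ideal U = Q
    rw [e1]
    have hle : (U.2.primeIdealOf ⟨q η.1, h⟩).asIdeal ≤ Q := by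
      refine (PrimeSpectrum.le_iff_specializes _ ⟨Q, hQ.1.1⟩).2 (U.2.fromSpec.isOpenEmbedding.isInducing.specializes_iff.1 ?_)
      rw [U.2.fromSpec_primeIdealOf]
      exact hsp
    exact le_antisymm hle (hQ.2 ⟨inferInstance, (Ideal.span_singleton_le_iff_mem _).2 ((hmem U _ h).1 ⟨_, rfl⟩)⟩ hle)
  · rcases closureIdeal_cases (q η.1) U with ⟨-, h⟩ | ⟨h, e1⟩
    · exact absurd h (Ideal.IsPrime.ne_top inferInstance)
    letI := TopCat.Presheaf.algebra_section_stalk 𝒳.presheaf (⟨q η.1, h⟩ : U.1)
    haveI := U.2.isLocalization_stalk ⟨q η.1, h⟩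
    refine ⟨𝒳.presheaf.stalk (q η.1), inferInstance, inferInstance, ?_, ?_⟩
    · simp only [e1]; exact U.2.isLocalization_stalk ⟨q η.1, h⟩
    rw [mul_comm, ← he η, ← hl η]
    rw [show algebraMap Γ(𝒳, U.1) (𝒳.presheaf.stalk (q η.1)) (FibreIdeal.unifOn (Over.mk p) ϖ U.1) =
      FibreQuot.localMap p (q η.1) ϖ from 𝒳.presheaf.germ_res_apply (homOfLE (le_top : U.1 ≤ ⊤)) (q η.1) h _]
    let ψ := (q.stalkMap η.1).hom
    have hsur : Function.Surjective ψ := q.stalkMap_surjective η.1
    have hker : RingHom.ker ψ = Ideal.span {FibreQuot.localMap p (q η.1) ϖ} := by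
      refine (FibreQuot.ker_stalkMap_residue p η.1).trans ?_
      rw [hϖ, Ideal.map_span, Set.image_singleton]
      rfl
    letI := ψ.toAlgebra
    rw [← Module.length_eq_of_surjective (S := 𝒳.presheaf.stalk (q η.1))
      (R := Y.presheaf.stalk η.1) hsur, ← hker]
    exact (Ideal.quotientKerAlgEquivOfSurjective
      (f := Algebra.ofId (𝒳.presheaf.stalk (q η.1)) (Y.presheaf.stalk η.1)) hsur).toLinearEquiv.length_eq

/-- At a closed point of a scheme of finite type over a field the residue degree is positive. -/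
theorem residueDegree_ne_zero {K : Type u} [Field K] {X : Scheme.{u}} (f : X ⟶ Spec (CommRingCat.of K))
    [LocallyOfFiniteType f] {x : X} (hx : IsClosed ({x} : Set X)) : f.residueDegree x ≠ 0 := by
  haveI : IsClosedImmersion (X.fromSpecResidueField x) := isClosed_singleton_iff_isClosedImmersion.1 hx
  let a := X.fromSpecResidueField x
  haveI : IsFinite (a ≫ f) := by rw [isFinite_iff_locallyOfFiniteType_of_jacobsonSpace]; infer_instance
  let φ : CommRingCat.of K ⟶ X.residueField x := Spec.preimage (a ≫ f)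
  have hφ : φ.hom.Finite := by
    rw [← IsFinite.SpecMap_iff, Spec.map_preimage]
    infer_instance
  letI : Algebra K (X.residueField x) := φ.hom.toAlgebra
  haveI : Module.Finite K (X.residueField x) := hφ
  have e : Spec.map (CommRingCat.ofHom (algebraMap K (X.residueField x))) = a ≫ f := Spec.map_preimage _
  let z : Spec (X.residueField x) := IsLocalRing.closedPoint (X.residueField x)
  have hd : (a ≫ f).residueDegree z = Module.finrank K (X.residueField x) := by
    rw [← e]
    exact QsAlgLib.residueDegree_specMap K (F := X.residueField x) z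
  rw [CycLib.residueDegree_comp, Scheme.fromSpecResidueField_apply] at hd
  intro h0
  rw [h0, zero_mul] at hd
  exact (Module.finrank_pos (R := K) (M := X.residueField x)).ne hd

end Groth.Agent.MultRoot
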